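import Cfsg.Agent.H202.TP.Same
import Cfsg.Agent.H202.TP.Defs
import Cfsg.Agent.H621.TP.Psl
import Cfsg.Agent.H29.TPPsu
import Cfsg.Agent.H239.TPSp
import Cfsg.Agent.H699.TPOrth
import Cfsg.Agent.H96.TP.Alt
import Cfsg.Agent.H76.TP.ExcB
import Cfsg.Agent.H76.TP.ExcA

/-!
# Block TP (S3536): the groups satisfying `TK` are of Lie type in characteristic `p` (helper202)
-/

set_option autoImplicit false

namespace Cfsg.Agent.H202.TP

open Cfsg Cfsg.Agent.OrdDiv Cfsg.Agent.H436

/-- **The groups with `TK`.** -/
theorem same {p q k : ℕ} {S : Type*} [Group S] [Finite S] (h : TK p q k S) {g : Grp} (hg : IsNamed g S) :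
    IsLieTypeChar p S := by
  by_cases hv : p ∣ par g
  · exact lie_of_dvd h.prime hg hv
  exfalso
  cases g with
  | alt n => exact H96.TP.alt h hg
  | psl n u =>
    obtain ⟨hn, -, -⟩ := hg.cond
    rcases eq_or_lt_of_le hn with rfl | h3
    · obtain ⟨F, _, _, -, ⟨e⟩⟩ := hg.real
      exact (h.not_psl2 F).false e
    · exact H621.TP.psl h hg h3 hv
  | psp n u => exact H239.TPSp.psp h hg hv
  | psu n u => exact H29.TPPsu.psu h hg hv
  | oodd n u => exact H239.TPSp.oodd h hg hv
  | oplus n u => exact H699.TPOrth.oplus h hg hv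
  | ominus n u => exact H699.TPOrth.ominus h hg hv
  | g2 u => exact H76.TP.g2 h hg
  | f4 u => exact H76.TP.f4 h hg
  | e6 u => exact H76.TP.e6 h hg
  | e7 u => exact H76.TP.e7 h hg
  | e8 u => exact H76.TP.e8 h hg
  | te6 u => exact H76.TP.te6 h hg
  | td4 u => exact H76.TP.td4 h hg
  | sz u => exact H76.TP.sz h hg
  | ree u => exact H76.TP.ree h hg
  | tf4 u => exact H76.TP.tf4 h hg
  | tits => exact H96.TP.tits h hg
  | m11 => exact H96.TP.spor_of (by decide) h hg
  | m12 => exact H96.TP.spor_of (by decide) h hg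
  | m22 => exact H96.TP.spor_of (by decide) h hg
  | m23 => exact H96.TP.spor_of (by decide) h hg
  | m24 => exact H96.TP.spor_of (by decide) h hg
  | j1 => exact H96.TP.spor_of (by decide) h hg
  | j2 => exact H96.TP.spor_of (by decide) h hg
  | j3 => exact H96.TP.spor_of (by decide) h hg
  | j4 => exact H96.TP.spor_of (by decide) h hg
  | co1 => exact H96.TP.spor_of (by decide) h hg
  | co2 => exact H96.TP.spor_of (by decide) h hg
  | co3 => exact H96.TP.spor_of (by decide) h hg
  | mcl => exact H96.TP.spor_of (by decide) h hg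
  | hs => exact H96.TP.spor_of (by decide) h hg
  | suz => exact H96.TP.spor_of (by decide) h hg
  | he => exact H96.TP.spor_of (by decide) h hg
  | ru => exact H96.TP.spor_of (by decide) h hg
  | on => exact H96.TP.spor_of (by decide) h hg
  | ly => exact H96.TP.spor_of (by decide) h hg
  | fi22 => exact H96.TP.spor_of (by decide) h hg
  | fi23 => exact H96.TP.spor_of (by decide) h hg
  | fi24 => exact H96.TP.spor_of (by decide) h hg
  | hn => exact H96.TP.spor_of (by decide) h hg
  | th => exact H96.TP.spor_of (by decide) h hg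
  | b => exact H96.TP.spor_of (by decide) h hg
  | m => exact H96.TP.spor_of (by decide) h hg

end Cfsg.Agent.H202.TP
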