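import Cfsg.Agent.H202.TP.Asm
import Cfsg.Agent.H202.TP.Cases
import Cfsg.Agent.H164.TPGk
import Cfsg.Agent.S3588
import Cfsg.Agent.OddHalf.Known

/-!
# Block TP (S3536): the main theorem (helper202)
-/

set_option autoImplicit false
set_option linter.unusedSectionVars false

namespace Cfsg.Agent.H202.TP

open Cfsg Cfsg.Agent.OrdDiv Cfsg.Agent.H436 Cfsg.Agent.H420.QR Subgroup

/-- **Groups isospectral to `PSp_{2n}(q)`, `Ω_{2n+1}(q)`, `n = 2 ^ k ≥ 8`, `q = p ^ α`, `α` odd.** -/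
theorem main {F : Type*} [Field F] [Fintype F] {p α : ℕ} (hp : p.Prime) (hpodd : Odd p) (hα : Odd α)
    (hF : Fintype.card F = p ^ α) {k : ℕ} (hk : 3 ≤ k) {L : Type*} [Group L] [Finite L]
    (hL : Nonempty (L ≃* Cfsg.PSp (2 ^ k) F) ∨ Nonempty (L ≃* Cfsg.POmega F (Cfsg.quadFormOdd (2 ^ k) F)))
    {G : Type*} [Group G] [Finite G] (h : Set.range (orderOf : G → ℕ) = Set.range (orderOf : L → ℕ)) :
    Nonempty (G ≃* L) := by
  classical
  have hp2 : p ≠ 2 := by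
    rintro rfl
    exact absurd hpodd (by decide)
  have hpf := Fact.mk hp
  have hcF : CharP F p := by
    obtain ⟨r, hr⟩ := CharP.exists F
    obtain ⟨n, hrp, hn⟩ := FiniteField.card F r
    have h1 : p ∣ r ^ (n : ℕ) := by
      rw [← hn, hF]
      exact dvd_pow_self p (by rintro rfl; exact absurd hα (by decide))
    have h2 := (Nat.prime_dvd_prime_iff_eq hp hrp).1 (hp.dvd_of_dvd_pow h1)
    rw [h2]
    exact hr
  have hoddF : Odd (Fintype.card F) := by
    rw [hF]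
    exact hpodd.pow
  have hm : 5 ≤ 2 ^ k := by
    have : 2 ^ 3 ≤ 2 ^ k := Nat.pow_le_pow_right (by norm_num) hk
    omega
  have hGL : GK p (Fintype.card F) k L := by
    rcases hL with ⟨⟨e⟩⟩ | ⟨⟨e⟩⟩
    · exact (Cfsg.Agent.H164.TPGk.gk_psp hp hp2 hα hF hk).congr e.symm
    · exact (Cfsg.Agent.H164.TPGk.gk_odd hp hp2 hα hF hk).congr e.symm
  have hG : GK p (Fintype.card F) k G := hGL.of_spec h
  obtain ⟨K, hK, S, hS, hR, hT, hcop⟩ := frame hG
  obtain ⟨g, hg⟩ := hR.named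
  have hlie : IsLieTypeChar p ↥S := same hT hg
  have hsim := hR.simple
  -- the composition factor is `L`
  have hSL : Nonempty (↥S ≃* L) := by
    obtain ⟨K', H', hK', hH', h1, -, -, ⟨e⟩⟩ := hR.quasi (L := ↥S) ⟨MulEquiv.refl _⟩
    have hsim' : IsSimpleGroup (↥H' ⧸ K'.subgroupOf H') := e.isSimpleGroup
    have hna : ¬ IsMulCommutative (↥H' ⧸ K'.subgroupOf H') := by
      intro hc
      apply hR.nonab
      refine ⟨⟨fun a b => ?_⟩⟩
      apply e.symm.injective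
      rw [map_mul, map_mul]
      exact hc.is_comm.comm _ _
    obtain ⟨f⟩ := Cfsg.Agent.S3588.result p hm (hL.imp id fun f => Or.inl ⟨hoddF, f⟩) h H' hH'.isSubnormal
      (K'.subgroupOf H') hsim' hna (Cfsg.Agent.OddHalf.Known.isLieTypeChar_congr e.symm hlie)
    exact ⟨e.symm.trans f⟩
  obtain ⟨f⟩ := hSL
  obtain ⟨e⟩ := asm hp hp2 hα hF hk hG hR hcop
    (hL.imp (fun t => ⟨f.trans t.some⟩) (fun t => ⟨f.trans t.some⟩))
  exact ⟨e.trans f⟩

end Cfsg.Agent.H202.TP
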