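import Cfsg.Agent.H436.Names
import Cfsg.Prelude.Def_LieTypeChar
import Mathlib

/-!
# Named groups of Lie type in characteristic `p` (helper202)

`lie_of_dvd` : a named group of Lie type whose field parameter is divisible by the odd prime `p` is `IsLieTypeChar p`.
-/

set_option autoImplicit false

namespace Cfsg.Agent.H202.TP

open Cfsg Cfsg.Agent.OrdDiv Cfsg.Agent.H436

/-- the field parameter of a name -/
def par : Grp → ℕ
  | .psl _ q => q
  | .psp _ q => q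
  | .psu _ q => q
  | .oodd _ q => q
  | .oplus _ q => q
  | .ominus _ q => q
  | .g2 q => q
  | .f4 q => q
  | .e6 q => q
  | .e7 q => q
  | .e8 q => q
  | .te6 q => q
  | .td4 q => q
  | .sz q => q
  | .ree q => q
  | .tf4 q => q
  | _ => 1

theorem charP_of_dvd {F : Type} [Field F] [Fintype F] {p : ℕ} (hp : p.Prime) (h : p ∣ Fintype.card F) : CharP F p := by
  obtain ⟨r, hr⟩ := CharP.exists F
  obtain ⟨n, hrp, hn⟩ := FiniteField.card F r
  rw [hn] at h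
  have h1 := (Nat.prime_dvd_prime_iff_eq hp hrp).1 (hp.dvd_of_dvd_pow h)
  rw [h1]
  exact hr

theorem eq_of_dvd_pow {p r n : ℕ} (hp : p.Prime) (hr : r.Prime) (h : p ∣ r ^ n) : p = r :=
  (Nat.prime_dvd_prime_iff_eq hp hr).1 (hp.dvd_of_dvd_pow h)

/-- **A named group whose field parameter is divisible by `p`.** -/
theorem lie_of_dvd {p : ℕ} (hp : p.Prime) {S : Type*} [Group S] {g : Grp} (hg : IsNamed g S) (h : p ∣ par g) :
    IsLieTypeChar p S := by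
  have hc := hg.cond
  have hr := hg.real
  cases g with
  | psl n u =>
    obtain ⟨F, _, _, hF, e⟩ := hr
    obtain ⟨h1, h2, -⟩ := hc
    exact Or.inl ⟨F, inferInstance, inferInstance, charP_of_dvd hp (hF ▸ h), n, h1, fun hn => hF ▸ h2 hn, e⟩
  | psp n u =>
    obtain ⟨F, _, _, hF, e⟩ := hr
    obtain ⟨h1, h2, -⟩ := hc
    exact Or.inr (Or.inl ⟨F, inferInstance, inferInstance, charP_of_dvd hp (hF ▸ h), n, h1, fun hn => hF ▸ h2 hn, e⟩)
  | psu n u =>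
    obtain ⟨F, _, _, hF, e⟩ := hr
    obtain ⟨h1, h2, -⟩ := hc
    exact Or.inr (Or.inr (Or.inl ⟨F, inferInstance, inferInstance, charP_of_dvd hp (hF ▸ Dvd.dvd.pow h two_ne_zero), n, u, hF, h1, h2, e⟩))
  | oodd n u =>
    obtain ⟨F, _, _, hF, e⟩ := hr
    obtain ⟨h1, h2, -⟩ := hc
    exact Or.inr (Or.inr (Or.inr (Or.inl ⟨F, inferInstance, inferInstance, charP_of_dvd hp (hF ▸ h), n, h1, hF ▸ h2, e⟩)))
  | oplus n u =>
    obtain ⟨F, _, _, hF, e⟩ := hr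
    exact Or.inr (Or.inr (Or.inr (Or.inr (Or.inl ⟨F, inferInstance, inferInstance, charP_of_dvd hp (hF ▸ h), n, hc.1, e⟩))))
  | ominus n u =>
    obtain ⟨F, _, _, a, b, hF, hab, e⟩ := hr
    exact Or.inr (Or.inr (Or.inr (Or.inr (Or.inr (Or.inl ⟨F, inferInstance, inferInstance, charP_of_dvd hp (hF ▸ h), n, a, b, hc.1, hab, e⟩)))))
  | g2 u =>
    obtain ⟨F, _, _, hF, e⟩ := hr
    exact Or.inr (Or.inr (Or.inr (Or.inr (Or.inr (Or.inr (Or.inl
      ⟨F, inferInstance, inferInstance, charP_of_dvd hp (hF ▸ h), Or.inl ⟨hF ▸ hc.1, e⟩⟩))))))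
  | f4 u =>
    obtain ⟨F, _, _, hF, e⟩ := hr
    exact Or.inr (Or.inr (Or.inr (Or.inr (Or.inr (Or.inr (Or.inl
      ⟨F, inferInstance, inferInstance, charP_of_dvd hp (hF ▸ h), Or.inr (Or.inl e)⟩))))))
  | e6 u =>
    obtain ⟨F, _, _, hF, e⟩ := hr
    exact Or.inr (Or.inr (Or.inr (Or.inr (Or.inr (Or.inr (Or.inl
      ⟨F, inferInstance, inferInstance, charP_of_dvd hp (hF ▸ h), Or.inr (Or.inr (Or.inl e))⟩))))))
  | e7 u =>
    obtain ⟨F, _, _, hF, e⟩ := hr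
    exact Or.inr (Or.inr (Or.inr (Or.inr (Or.inr (Or.inr (Or.inl
      ⟨F, inferInstance, inferInstance, charP_of_dvd hp (hF ▸ h), Or.inr (Or.inr (Or.inr (Or.inl e)))⟩))))))
  | e8 u =>
    obtain ⟨F, _, _, hF, e⟩ := hr
    exact Or.inr (Or.inr (Or.inr (Or.inr (Or.inr (Or.inr (Or.inl
      ⟨F, inferInstance, inferInstance, charP_of_dvd hp (hF ▸ h), Or.inr (Or.inr (Or.inr (Or.inr e)))⟩))))))
  | te6 u =>
    obtain ⟨F, _, _, hF, e⟩ := hr
    exact Or.inr (Or.inr (Or.inr (Or.inr (Or.inr (Or.inr (Or.inr (Or.inl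
      ⟨F, inferInstance, inferInstance, charP_of_dvd hp (hF ▸ Dvd.dvd.pow h two_ne_zero), u, hc, Or.inl ⟨hF, e⟩⟩)))))))
  | td4 u =>
    obtain ⟨F, _, _, hF, e⟩ := hr
    exact Or.inr (Or.inr (Or.inr (Or.inr (Or.inr (Or.inr (Or.inr (Or.inl
      ⟨F, inferInstance, inferInstance, charP_of_dvd hp (hF ▸ Dvd.dvd.pow h three_ne_zero), u, hc, Or.inr ⟨hF, e⟩⟩)))))))
  | sz u =>
    obtain ⟨F, _, _, m, h1, hF, hu, e⟩ := hr
    have h2 : p = 2 := eq_of_dvd_pow hp Nat.prime_two (hu ▸ h)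
    exact Or.inr (Or.inr (Or.inr (Or.inr (Or.inr (Or.inr (Or.inr (Or.inr (Or.inl
      ⟨h2, F, inferInstance, inferInstance, m, h1, hF.trans hu, e⟩))))))))
  | tf4 u =>
    obtain ⟨F, _, _, m, h1, hF, hu, e⟩ := hr
    have h2 : p = 2 := eq_of_dvd_pow hp Nat.prime_two (hu ▸ h)
    exact Or.inr (Or.inr (Or.inr (Or.inr (Or.inr (Or.inr (Or.inr (Or.inr (Or.inr (Or.inl
      ⟨h2, F, inferInstance, inferInstance, m, h1, hF.trans hu, e⟩)))))))))
  | ree u =>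
    obtain ⟨F, _, _, m, h1, hF, hu, e⟩ := hr
    have h2 : p = 3 := eq_of_dvd_pow hp Nat.prime_three (hu ▸ h)
    exact Or.inr (Or.inr (Or.inr (Or.inr (Or.inr (Or.inr (Or.inr (Or.inr (Or.inr (Or.inr
      ⟨h2, F, inferInstance, inferInstance, m, h1, hF.trans hu, e⟩)))))))))
  | _ => exact absurd h (fun h' => hp.one_lt.ne' (Nat.dvd_one.1 h'))

end Cfsg.Agent.H202.TP
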